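import Mathlib

/-!
Base change of the square of an ideal.
-/

set_option autoImplicit false

universe u

open TensorProduct

namespace Groth.Agent.SmoothLiftLib

/-- Base change to `A/I` of the square of the ideal of a finitely presented closed subscheme over `A/I`. -/
theorem finitePresentation_tensor_sq {A C : Type u} [CommRing A] [CommRing C] [Algebra A C]
    [Algebra.FinitePresentation A C] (I : Ideal A) (J : Ideal C) (β : A ⧸ I →+* C ⧸ J)
    (hβc : β.comp (Ideal.Quotient.mk I) = algebraMap A (C ⧸ J)) (hβ : β.FinitePresentation) :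
    Algebra.FinitePresentation (A ⧸ I) ((A ⧸ I) ⊗[A] (C ⧸ J ^ 2)) := by
  letI := β.toAlgebra
  haveI : Algebra.FinitePresentation (A ⧸ I) (C ⧸ J) := hβ
  haveI : IsScalarTower A (A ⧸ I) (C ⧸ J) := IsScalarTower.of_algebraMap_eq' hβc.symm
  let π : (A ⧸ I) ⊗[A] C →ₐ[A ⧸ I] C ⧸ J :=
    Algebra.TensorProduct.lift (Algebra.ofId (A ⧸ I) (C ⧸ J)) (Ideal.Quotient.mkₐ A J) fun _ _ => .all _ _
  have hπ1 : ∀ c, π ((1 : A ⧸ I) ⊗ₜ c) = Ideal.Quotient.mk J c := fun c => by simp [π]
  have hπ : Function.Surjective π := fun y => by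
    obtain ⟨c, rfl⟩ := Ideal.Quotient.mk_surjective y
    exact ⟨_, hπ1 c⟩
  have hK : RingHom.ker π.toRingHom =
      J.map (Algebra.TensorProduct.includeRight : C →ₐ[A] (A ⧸ I) ⊗[A] C) := by
    refine le_antisymm (fun x hx => ?_) (Ideal.map_le_iff_le_comap.2 fun c hc => ?_)
    · obtain ⟨c, rfl⟩ : ∃ c, (1 : A ⧸ I) ⊗ₜ[A] c = x := by
        clear hx
        induction x using TensorProduct.induction_on with
        | zero => exact ⟨0, TensorProduct.tmul_zero _ _⟩
        | tmul r c =>
          obtain ⟨a, rfl⟩ := Ideal.Quotient.mk_surjective r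
          refine ⟨a • c, ?_⟩
          rw [← TensorProduct.smul_tmul]
          congr 1
          rw [Algebra.smul_def, mul_one]; rfl
        | add x y hx hy =>
          obtain ⟨c, rfl⟩ := hx
          obtain ⟨d, rfl⟩ := hy
          exact ⟨c + d, TensorProduct.tmul_add _ _ _⟩
      exact Ideal.mem_map_of_mem _ (Ideal.Quotient.eq_zero_iff_mem.1 ((hπ1 c).symm.trans hx))
    · exact (hπ1 c).trans (Ideal.Quotient.eq_zero_iff_mem.2 hc)
  let g : (A ⧸ I) ⊗[A] C →ₐ[A ⧸ I] (A ⧸ I) ⊗[A] (C ⧸ J ^ 2) :=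
    Algebra.TensorProduct.map (AlgHom.id _ _) (Ideal.Quotient.mkₐ A (J ^ 2))
  have hg : Function.Surjective g := fun y => by
    induction y using TensorProduct.induction_on with
    | zero => exact ⟨0, map_zero _⟩
    | tmul r c =>
      obtain ⟨c, rfl⟩ := Ideal.Quotient.mk_surjective c
      exact ⟨r ⊗ₜ c, Algebra.TensorProduct.map_tmul _ _ _ _⟩
    | add x y hx hy =>
      obtain ⟨c, rfl⟩ := hx
      obtain ⟨d, rfl⟩ := hy
      exact ⟨c + d, map_add _ _ _⟩
  have e : ∀ x, g x = Algebra.TensorProduct.map (AlgHom.id A (A ⧸ I)) (Ideal.Quotient.mkₐ A (J ^ 2)) x := by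
    intro x
    induction x using TensorProduct.induction_on with
    | zero => simp only [map_zero]
    | tmul r c => rfl
    | add x y hx hy => rw [map_add, map_add, hx, hy]
  have hgker : RingHom.ker g.toRingHom = (RingHom.ker π.toRingHom) ^ 2 := by
    rw [hK, ← Ideal.map_pow]
    have h1 := Algebra.TensorProduct.lTensor_ker (R := A) (A := A ⧸ I)
      (Ideal.Quotient.mkₐ A (J ^ 2)) (Ideal.Quotient.mkₐ_surjective A (J ^ 2))
    rw [show RingHom.ker (Ideal.Quotient.mkₐ A (J ^ 2)) = J ^ 2 from Ideal.Quotient.mkₐ_ker A _] at h1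
    rw [← h1]
    ext x
    simp only [RingHom.mem_ker]
    show g x = 0 ↔ _
    rw [e]
  exact Algebra.FinitePresentation.of_surjective hg
    (hgker ▸ (Algebra.FinitePresentation.ker_fG_of_surjective π hπ).pow (n := 2))

end Groth.Agent.SmoothLiftLib
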