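import Groth.Agent.SmoothLiftLib.Retraction
import Groth.Agent.SmoothLiftLib.Tensor
import Groth.Agent.Thicken.Affine
import Groth.Agent.FEtHom.Basic
import Groth.Agent.NilLift.Basic

/-!
Smooth morphisms lift along square-zero thickenings of affine schemes.
-/

set_option autoImplicit false
set_option backward.isDefEq.respectTransparency false
set_option backward.isDefEq.respectTransparency.types false

universe u

open CategoryTheory CategoryTheory.Limits AlgebraicGeometry TensorProduct

namespace Groth.Agent.SmoothLiftLib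

/-- Functions killed by a square-zero thickening of affine schemes multiply to zero. -/
theorem mul_eq_zero_of_app {A : Type u} [CommRing A] {I : Ideal A} (hI : I ^ 2 = ⊥)
    {V : (Spec (CommRingCat.of A)).Opens} {x y : Γ(Spec (CommRingCat.of A), V)}
    (hx : (Spec.map (CommRingCat.ofHom (Ideal.Quotient.mk I))).app V x = 0)
    (hy : (Spec.map (CommRingCat.ofHom (Ideal.Quotient.mk I))).app V y = 0) : x * y = 0 := by
  set qg := Spec.map (CommRingCat.ofHom (Ideal.Quotient.mk I)) with hqg
  have hsq : qg.ker ^ 2 = ⊥ := by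
    apply Scheme.IdealSheafData.ext_of_isAffine
    rw [Scheme.IdealSheafData.ideal_pow, Scheme.IdealSheafData.ideal_bot, Pi.pow_apply, Pi.bot_apply,
      Scheme.Hom.ker_apply]
    exact FEtHom.ker_appTop_sq A I hI
  refine TopCat.Presheaf.section_ext (Spec (CommRingCat.of A)).sheaf V (x * y) 0 fun p hp => ?_
  obtain ⟨_, ⟨D, hD, rfl⟩, hpD, hDV⟩ :=
    (Spec (CommRingCat.of A)).isBasis_affineOpens.exists_subset_of_mem_open hp V.isOpen
  let r := (Spec (CommRingCat.of A)).presheaf.map (homOfLE (hDV : D ≤ V)).op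
  have hmem : ∀ z, qg.app V z = 0 → r z ∈ qg.ker.ideal ⟨D, hD⟩ := fun z hz => by
    rw [Scheme.Hom.ker_apply, RingHom.mem_ker]
    show (r ≫ qg.app D) z = 0
    rw [qg.naturality, ConcreteCategory.comp_apply, hz, map_zero]
  have h0 : r (x * y) = 0 := by
    rw [map_mul, ← Ideal.mem_bot]
    rw [show (⊥ : Ideal Γ(Spec (CommRingCat.of A), D)) = (qg.ker ^ 2).ideal ⟨D, hD⟩ by rw [hsq]; rfl,
      Scheme.IdealSheafData.ideal_pow, Pi.pow_apply, pow_two]
    exact Ideal.mul_mem_mul (hmem x hx) (hmem y hy)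
  exact (TopCat.Presheaf.germ_res_apply (Spec (CommRingCat.of A)).presheaf
    (homOfLE (hDV : D ≤ V)) p hpD (x * y)).symm.trans ((congrArg _ h0).trans ((map_zero _).trans (map_zero _).symm))

/-- The square of the ideal of a point contains the kernel of every lift of the point. -/
theorem sq_ker_le_ker {A : Type u} [CommRing A] {I : Ideal A} (hI : I ^ 2 = ⊥) {X Y : Scheme.{u}}
    (σ : Y ⟶ X) (l : Spec (CommRingCat.of A) ⟶ X)
    (c : Spec (CommRingCat.of (A ⧸ I)) ⟶ Y)
    (h : Spec.map (CommRingCat.ofHom (Ideal.Quotient.mk I)) ≫ l = c ≫ σ) :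
    σ.ker ^ 2 ≤ l.ker := by
  refine Scheme.IdealSheafData.le_ofIdeals_iff.2 fun U => ?_
  rw [Scheme.IdealSheafData.ideal_pow, Pi.pow_apply, pow_two, Ideal.mul_le]
  have hle : ∀ x ∈ σ.ker.ideal U, (Spec.map (CommRingCat.ofHom (Ideal.Quotient.mk I))).app (l ⁻¹ᵁ U.1)
      (l.app U.1 x) = 0 := fun x hx => by
    have h1 := (c ≫ σ).ideal_ker_le U (c.le_ker_comp σ U hx)
    rw [← h, RingHom.mem_ker, Scheme.Hom.comp_app] at h1
    exact h1
  intro x hx y hy
  rw [RingHom.mem_ker, map_mul]
  exact mul_eq_zero_of_app hI (hle x hx) (hle y hy)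

/-- The lift of a point of a smooth scheme: the case of a closed point. -/
theorem exists_section_of_isClosedImmersion {A : Type u} [CommRing A] {I : Ideal A} (hI : I ^ 2 = ⊥)
    {W : Scheme.{u}} (q : W ⟶ Spec (CommRingCat.of A)) [Smooth q]
    (σ₀ : Spec (CommRingCat.of (A ⧸ I)) ⟶ W) [IsClosedImmersion σ₀]
    (h : σ₀ ≫ q = Spec.map (CommRingCat.ofHom (Ideal.Quotient.mk I))) :
    ∃ l : Spec (CommRingCat.of A) ⟶ W,
      Spec.map (CommRingCat.ofHom (Ideal.Quotient.mk I)) ≫ l = σ₀ ∧ l ≫ q = 𝟙 _ := by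
  let J := σ₀.ker
  let Z := (J ^ 2).subscheme
  let ι : Z ⟶ W := (J ^ 2).subschemeι
  have hle : ι.ker ≤ σ₀.ker := by
    rw [Scheme.IdealSheafData.ker_subschemeι]
    intro U
    rw [Scheme.IdealSheafData.ideal_pow]
    exact Ideal.pow_le_self two_ne_zero
  let t := IsClosedImmersion.lift ι σ₀ hle
  have htι : t ≫ ι = σ₀ := IsClosedImmersion.lift_fac ι σ₀ hle
  haveI : IsClosedImmersion (t ≫ ι) := by rw [htι]; infer_instance
  haveI : IsClosedImmersion t := IsClosedImmersion.of_comp t ι
  have hts : Function.Surjective t := by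
    intro z
    have hz : ι z ∈ Set.range σ₀ := by
      have h1 : ι z ∈ ((J ^ 2).support : Set W) := by
        rw [← Scheme.IdealSheafData.range_subschemeι]; exact ⟨z, rfl⟩
      rw [Scheme.IdealSheafData.support_pow J 2 two_ne_zero, Scheme.Hom.support_ker] at h1
      rwa [σ₀.isClosedEmbedding.isClosed_range.closure_eq] at h1
    obtain ⟨r, hr⟩ := hz
    refine ⟨r, ι.isClosedEmbedding.injective ?_⟩
    rw [← Scheme.Hom.comp_apply, htι, hr]
  haveI : IsAffine Z := Thicken.isAffine t hts
  let C : CommRingCat.{u} := Γ(Z, ⊤)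
  obtain ⟨α, hα⟩ := Spec.map_surjective (Z.isoSpec.inv ≫ ι ≫ q)
  letI : Algebra A C := α.hom.toAlgebra
  obtain ⟨s, hs⟩ := Spec.map_surjective (t ≫ Z.isoSpec.hom)
  have hsα : α ≫ s = CommRingCat.ofHom (Ideal.Quotient.mk I) := by
    apply Spec.map_injective
    rw [Spec.map_comp, hs, hα, Category.assoc, Iso.hom_inv_id_assoc, ← Category.assoc, htι, h]
  let σ : C →ₐ[A] A ⧸ I := { s.hom with commutes' := fun a => congrArg (fun k => k.hom a) hsα }
  have htop : ∀ c : C, σ c = 0 → t.appTop c = 0 := by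
    intro c hc
    have e : Z.isoSpec.hom.appTop ((Scheme.ΓSpecIso C).inv c) = c := by
      show Z.toSpecΓ.appTop _ = c
      rw [Scheme.toSpecΓ_appTop]
      exact Iso.inv_hom_id_apply (Scheme.ΓSpecIso C) c
    rw [← e, ← ConcreteCategory.comp_apply, ← Scheme.Hom.comp_appTop, ← hs,
      ← ConcreteCategory.comp_apply, ← Scheme.ΓSpecIso_inv_naturality, ConcreteCategory.comp_apply]
    exact (congrArg _ hc).trans (map_zero _)
  have hσ2 : RingHom.ker σ ^ 2 = ⊥ := by
    rw [eq_bot_iff, pow_two, Ideal.mul_le]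
    intro x hx y hy
    rw [Ideal.mem_bot]
    refine TopCat.Presheaf.section_ext Z.sheaf ⊤ (x * y) 0 fun z hz => ?_
    obtain ⟨_, ⟨U, hU, rfl⟩, hzU, -⟩ :=
      W.isBasis_affineOpens.exists_subset_of_mem_open (Set.mem_univ (ι z)) isOpen_univ
    let r := Z.presheaf.map (homOfLE (le_top : ι ⁻¹ᵁ U ≤ ⊤)).op
    have hmem : ∀ c : C, σ c = 0 → ∃ c' ∈ J.ideal ⟨U, hU⟩, ι.app U c' = r c := fun c hc => by
      obtain ⟨c', hc'⟩ := (J ^ 2).subschemeι_app_surjective ⟨U, hU⟩ (r c)
      refine ⟨c', ?_, hc'⟩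
      rw [Scheme.Hom.ker_apply, RingHom.mem_ker]
      rw [Scheme.Hom.congr_app htι.symm U, ConcreteCategory.comp_apply, Scheme.Hom.comp_app,
        ConcreteCategory.comp_apply]
      erw [hc']
      have : t.app (ι ⁻¹ᵁ U) (r c) = 0 := by
        show (r ≫ t.app (ι ⁻¹ᵁ U)) c = 0
        rw [t.naturality, ConcreteCategory.comp_apply]
        exact (congrArg _ (htop c hc)).trans (map_zero _)
      erw [this]
      exact map_zero _
    obtain ⟨x', hx', ex⟩ := hmem x hx
    obtain ⟨y', hy', ey⟩ := hmem y hy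
    have h0 : r (x * y) = 0 := by
      rw [map_mul, ← ex, ← ey, ← map_mul]
      rw [← RingHom.mem_ker]
      erw [(J ^ 2).ker_subschemeι_app ⟨U, hU⟩]
      rw [Scheme.IdealSheafData.ideal_pow, Pi.pow_apply, pow_two]
      exact Ideal.mul_mem_mul hx' hy'
    exact (TopCat.Presheaf.germ_res_apply Z.presheaf
      (homOfLE (le_top : ι ⁻¹ᵁ U ≤ ⊤)) z hzU (x * y)).symm.trans
        ((congrArg _ h0).trans ((map_zero _).trans (map_zero _).symm))
  -- finite presentation of the special fibre
  have hfp : LocallyOfFinitePresentation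
      (pullback.fst (Spec.map (CommRingCat.ofHom (Ideal.Quotient.mk I))) (Spec.map α)) := by
    rw [IsZariskiLocalAtSource.iff_of_openCover (P := @LocallyOfFinitePresentation)
      (Scheme.Pullback.openCoverOfRight ((J ^ 2).subschemeCover.openCover.pushforwardIso Z.isoSpec.hom) _ _)]
    intro U
    obtain ⟨αU, hαU⟩ := Spec.map_surjective (U.2.fromSpec ≫ q)
    letI : Algebra A Γ(W, U.1) := αU.hom.toAlgebra
    haveI : Algebra.FinitePresentation A Γ(W, U.1) := by
      have : LocallyOfFinitePresentation (Spec.map αU) := by rw [hαU]; infer_instance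
      exact (HasRingHomProperty.Spec_iff (P := @LocallyOfFinitePresentation)).1 this
    have hglue : ∀ K : W.IdealSheafData, K.subschemeCover.f U ≫ K.subschemeι ≫ q =
        Spec.map (αU ≫ CommRingCat.ofHom (Ideal.Quotient.mk (K.ideal U))) := by
      intro K
      rw [← Category.assoc, Scheme.IdealSheafData.subschemeCover_map_subschemeι,
        Scheme.IdealSheafData.glueDataObjι]
      simp only [Category.assoc, IsAffineOpen.isoSpec_inv_ι_assoc]
      rw [Spec.map_comp, hαU]
    haveI : IsIso σ₀.toImage := inferInstance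
    obtain ⟨β, hβ⟩ := Spec.map_surjective (J.subschemeCover.f U ≫ inv σ₀.toImage)
    have hβc : CommRingCat.ofHom (Ideal.Quotient.mk I) ≫ β =
        αU ≫ CommRingCat.ofHom (Ideal.Quotient.mk (J.ideal U)) := by
      apply Spec.map_injective
      rw [Spec.map_comp, hβ, ← hglue J, ← h, Category.assoc]
      congr 1
      rw [IsIso.inv_comp_eq]
      exact (Scheme.Hom.toImage_imageι_assoc σ₀ q).symm
    have hβfp : β.hom.FinitePresentation := by
      haveI : IsOpenImmersion (J.subschemeCover.f U) := J.subschemeCover.map_prop U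
      have : LocallyOfFinitePresentation (Spec.map β) := by rw [hβ]; infer_instance
      exact (HasRingHomProperty.Spec_iff (P := @LocallyOfFinitePresentation)).1 this
    haveI := finitePresentation_tensor_sq (A := A) (C := Γ(W, U.1)) I (J.ideal U) β.hom
      (congrArg CommRingCat.Hom.hom hβc) hβfp
    have key : LocallyOfFinitePresentation (pullback.fst
        (Spec.map (CommRingCat.ofHom (algebraMap A (A ⧸ I))))
        (Spec.map (CommRingCat.ofHom (algebraMap A (Γ(W, U.1) ⧸ J.ideal U ^ 2))))) := by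
      rw [← MorphismProperty.cancel_left_of_respectsIso @LocallyOfFinitePresentation
        (pullbackSpecIso A (A ⧸ I) (Γ(W, U.1) ⧸ J.ideal U ^ 2)).inv, pullbackSpecIso_inv_fst']
      exact (HasRingHomProperty.Spec_iff (P := @LocallyOfFinitePresentation)).2
        (RingHom.finitePresentation_algebraMap.2 inferInstance)
    have hpiece : ((J ^ 2).subschemeCover.openCover.pushforwardIso Z.isoSpec.hom).f U ≫ Spec.map α =
        Spec.map (αU ≫ CommRingCat.ofHom (Ideal.Quotient.mk ((J ^ 2).ideal U))) := by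
      rw [hα, ← hglue]
      simp
      rfl
    simp only [Scheme.Pullback.openCoverOfRight_f, pullback.lift_fst, Category.comp_id]
    have e : (pullback.congrHom rfl hpiece).hom ≫ pullback.fst
        (Spec.map (CommRingCat.ofHom (Ideal.Quotient.mk I))) _ =
        pullback.fst (Spec.map (CommRingCat.ofHom (Ideal.Quotient.mk I))) _ := by
      simp [pullback.congrHom]
    rw [← e]
    exact (MorphismProperty.cancel_left_of_respectsIso @LocallyOfFinitePresentation _ _).2 key
  haveI : Algebra.FinitePresentation (A ⧸ I) ((A ⧸ I) ⊗[A] C) := by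
    have : LocallyOfFinitePresentation (Spec.map (CommRingCat.ofHom
        (algebraMap (A ⧸ I) ((A ⧸ I) ⊗[A] C)))) := by
      rw [← pullbackSpecIso_inv_fst' A (A ⧸ I) C]
      exact (MorphismProperty.cancel_left_of_respectsIso @LocallyOfFinitePresentation _ _).2 hfp
    exact RingHom.finitePresentation_algebraMap.1
      ((HasRingHomProperty.Spec_iff (P := @LocallyOfFinitePresentation)).1 this)
  obtain ⟨φ, hφ⟩ := exists_lift_of_local (C := C) I hI σ hσ2 (by
    by_contra hne
    obtain ⟨m, hm, hle'⟩ := Ideal.exists_le_maximal _ hne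
    have hnil : I ≤ nilradical A := fun i hi => ⟨2, by
      have := Ideal.pow_mem_pow hi 2; rwa [hI, Ideal.mem_bot] at this⟩
    obtain ⟨g, hg, l, hl1, hl2⟩ := NilLift.exists_lift_basicOpen q hnil σ₀ (𝟙 _)
      (by rw [Category.comp_id, h]) ⟨m, hm.isPrime⟩
    refine hg (hle' (Ideal.subset_span ?_))
    have hI' : (I.map (algebraMap A (Localization.Away g))) ^ 2 = ⊥ := by
      rw [← Ideal.map_pow, hI, Ideal.map_bot]
    have hlker : ι.ker ≤ l.ker := by
      rw [Scheme.IdealSheafData.ker_subschemeι]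
      exact sq_ker_le_ker hI' σ₀ l _ hl2
    let m' := IsClosedImmersion.lift ι l hlker
    have hm' : m' ≫ ι = l := IsClosedImmersion.lift_fac ι l hlker
    obtain ⟨ψ, hψ⟩ := Spec.map_surjective (m' ≫ Z.isoSpec.hom)
    have hψα : α ≫ ψ = CommRingCat.ofHom (algebraMap A (Localization.Away g)) := by
      apply Spec.map_injective
      rw [Spec.map_comp, hψ, hα, Category.assoc, Iso.hom_inv_id_assoc, ← Category.assoc, hm', hl1,
        Category.comp_id]
    refine ⟨{ ψ.hom with commutes' := fun a => congrArg (fun k => k.hom a) hψα }, fun c hc => ?_⟩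
    have hred : ψ ≫ CommRingCat.ofHom (Ideal.Quotient.mk (I.map (algebraMap A (Localization.Away g)))) =
        s ≫ CommRingCat.ofHom (Ideal.quotientMap (I.map (algebraMap A (Localization.Away g)))
          (algebraMap A (Localization.Away g)) Ideal.le_comap_map) := by
      apply Spec.map_injective
      rw [Spec.map_comp, Spec.map_comp, hψ, hs, ← Category.assoc, ← Category.assoc]
      congr 1
      rw [← cancel_mono ι, Category.assoc, Category.assoc, hm', htι, hl2]
    rw [← Ideal.Quotient.eq_zero_iff_mem]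
    have e := congrArg (fun k => k.hom c) hred
    simp only [CommRingCat.hom_comp, CommRingCat.hom_ofHom, RingHom.comp_apply] at e
    have hc' : s.hom c = 0 := hc
    rw [hc', map_zero] at e
    exact e)
  refine ⟨Spec.map (CommRingCat.ofHom φ.toRingHom) ≫ Z.isoSpec.inv ≫ ι, ?_, ?_⟩
  · have : CommRingCat.ofHom φ.toRingHom ≫ CommRingCat.ofHom (Ideal.Quotient.mk I) = s :=
      CommRingCat.hom_ext (RingHom.ext fun c => AlgHom.congr_fun hφ c)
    rw [← Spec.map_comp_assoc, this, hs, Category.assoc, Iso.hom_inv_id_assoc, htι]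
  · have : α ≫ CommRingCat.ofHom φ.toRingHom = 𝟙 _ :=
      CommRingCat.hom_ext (RingHom.ext fun a => φ.commutes a)
    rw [Category.assoc, Category.assoc, ← hα, ← Spec.map_comp, this, Spec.map_id]

/-- Smooth morphisms have sections lifting a given one along a square-zero thickening. -/
theorem exists_section {A : Type u} [CommRing A] {I : Ideal A} (hI : I ^ 2 = ⊥)
    {W : Scheme.{u}} (q : W ⟶ Spec (CommRingCat.of A)) [Smooth q]
    (σ₀ : Spec (CommRingCat.of (A ⧸ I)) ⟶ W)
    (h : σ₀ ≫ q = Spec.map (CommRingCat.ofHom (Ideal.Quotient.mk I))) :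
    ∃ l : Spec (CommRingCat.of A) ⟶ W,
      Spec.map (CommRingCat.ofHom (Ideal.Quotient.mk I)) ≫ l = σ₀ ∧ l ≫ q = 𝟙 _ := by
  haveI : IsClosedImmersion (σ₀ ≫ q) := by
    rw [h]; exact IsClosedImmersion.spec_of_surjective _ Ideal.Quotient.mk_surjective
  haveI : IsImmersion σ₀ := IsImmersion.of_comp σ₀ q
  obtain ⟨l, hl1, hl2⟩ := exists_section_of_isClosedImmersion hI (σ₀.coborderRange.ι ≫ q)
    σ₀.liftCoborder (by rw [Scheme.Hom.liftCoborder_ι_assoc, h])
  exact ⟨l ≫ σ₀.coborderRange.ι, by rw [reassoc_of% hl1, Scheme.Hom.liftCoborder_ι],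
    by rw [Category.assoc, hl2]⟩

/-- Smooth morphisms are formally smooth. -/
theorem isFormallySmoothHom_of_smooth {X Y : Scheme.{u}} (f : X ⟶ Y) [Smooth f]
    (A : Type u) [CommRing A] (I : Ideal A) (hI : I ^ 2 = ⊥)
    (a : Spec (CommRingCat.of (A ⧸ I)) ⟶ X) (b : Spec (CommRingCat.of A) ⟶ Y)
    (w : Spec.map (CommRingCat.ofHom (Ideal.Quotient.mk I)) ≫ b = a ≫ f) :
    ∃ l : Spec (CommRingCat.of A) ⟶ X,
      Spec.map (CommRingCat.ofHom (Ideal.Quotient.mk I)) ≫ l = a ∧ l ≫ f = b := by
  obtain ⟨l, hl1, hl2⟩ := exists_section hI (pullback.snd f b)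
    (pullback.lift a _ w.symm) (pullback.lift_snd _ _ _)
  exact ⟨l ≫ pullback.fst f b, by rw [reassoc_of% hl1, pullback.lift_fst],
    by rw [Category.assoc, pullback.condition, reassoc_of% hl2]⟩

end Groth.Agent.SmoothLiftLib
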