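import Groth.Agent.SmoothLiftLib.Nbhd
import Groth.Agent.FEtHom.Affine

/-!
Smooth = locally of finite presentation and formally smooth, for morphisms of schemes.
-/

set_option autoImplicit false
set_option backward.isDefEq.respectTransparency false
set_option backward.isDefEq.respectTransparency.types false

universe u

open CategoryTheory CategoryTheory.Limits AlgebraicGeometry

namespace Groth.Agent.SmoothLiftLib

variable {X Y Z : Scheme.{u}}

theorem comp {f : X ⟶ Y} {g : Y ⟶ Z} (hf : MoreMor.IsFormallySmoothHom f)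
    (hg : MoreMor.IsFormallySmoothHom g) : MoreMor.IsFormallySmoothHom (f ≫ g) := by
  intro A _ I hI a b w
  obtain ⟨m, hm1, hm2⟩ := hg A I hI (a ≫ f) b (by rw [Category.assoc]; exact w)
  obtain ⟨l, hl1, hl2⟩ := hf A I hI a m hm1
  exact ⟨l, hl1, by rw [reassoc_of% hl2, hm2]⟩

theorem of_isOpenImmersion (j : X ⟶ Y) [IsOpenImmersion j] : MoreMor.IsFormallySmoothHom j :=
  fun A _ I hI a b w => (FEtHom.of_isOpenImmersion j A I hI a b w).exists

theorem of_iso (j : X ⟶ Y) [IsIso j] : MoreMor.IsFormallySmoothHom j := of_isOpenImmersion j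

theorem resLE {f : X ⟶ Y} (hf : MoreMor.IsFormallySmoothHom f) (U : X.Opens) (V : Y.Opens)
    (h : U ≤ f ⁻¹ᵁ V) : MoreMor.IsFormallySmoothHom (f.resLE V U h) := by
  intro A _ I hI a b w
  obtain ⟨l, h₁, h₂⟩ := hf A I hI (a ≫ U.ι) (b ≫ V.ι)
    (by rw [← Category.assoc, w, Category.assoc, Category.assoc, Scheme.Hom.resLE_comp_ι])
  have hr : Set.range l ⊆ Set.range U.ι := by
    rintro _ ⟨p, rfl⟩
    obtain ⟨q, rfl⟩ := FEtHom.surjective_quotient A I hI p
    exact ⟨a q, by rw [← Scheme.Hom.comp_apply, ← h₁, Scheme.Hom.comp_apply]⟩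
  refine ⟨IsOpenImmersion.lift U.ι l hr, ?_, ?_⟩
  · rw [← cancel_mono U.ι, Category.assoc, IsOpenImmersion.lift_fac, h₁]
  · rw [← cancel_mono V.ι, Category.assoc, Scheme.Hom.resLE_comp_ι, ← Category.assoc,
      IsOpenImmersion.lift_fac, h₂]

/-- Formally smooth morphisms of affine schemes give formally smooth ring maps. -/
theorem formallySmooth_of_spec_map {R S : CommRingCat.{u}} (φ : R ⟶ S)
    (h : MoreMor.IsFormallySmoothHom (Spec.map φ)) :
    letI := φ.hom.toAlgebra; Algebra.FormallySmooth R S := by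
  letI := φ.hom.toAlgebra
  rw [Algebra.FormallySmooth.iff_comp_surjective]
  intro B _ _ I hI g
  obtain ⟨l, l₁, l₂⟩ := h B I hI (Spec.map (CommRingCat.ofHom g.toRingHom))
    (Spec.map (CommRingCat.ofHom (algebraMap R B))) (by
      rw [← Spec.map_comp, ← Spec.map_comp]
      congr 1
      ext r
      exact (g.commutes r).symm)
  obtain ⟨ψ, rfl⟩ := Spec.map_surjective l
  rw [← Spec.map_comp] at l₁ l₂
  have h₁ := Spec.map_injective l₁
  have h₂ := Spec.map_injective l₂
  exact ⟨⟨ψ.hom, fun r => congr($(h₂).hom r)⟩, AlgHom.ext fun x => congr($(h₁).hom x)⟩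

theorem appLE_formallySmooth {f : X ⟶ Y} (hf : MoreMor.IsFormallySmoothHom f) {U : X.Opens}
    {V : Y.Opens} (hU : IsAffineOpen U) (hV : IsAffineOpen V) (h : U ≤ f ⁻¹ᵁ V) :
    letI := (f.appLE V U h).hom.toAlgebra; Algebra.FormallySmooth Γ(Y, V) Γ(X, U) := by
  refine formallySmooth_of_spec_map _ ?_
  have : Spec.map (f.appLE V U h) = hU.isoSpec.inv ≫ f.resLE V U h ≫ hV.isoSpec.hom := by
    rw [FEtHom.resLE_eq_specMap f hU hV h]
    simp
  rw [this]
  exact comp (of_iso _) (comp (resLE hf U V h) (of_iso _))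

theorem smooth_iff (f : X ⟶ Y) :
    Smooth f ↔ LocallyOfFinitePresentation f ∧ MoreMor.IsFormallySmoothHom f := by
  constructor
  · intro _
    exact ⟨inferInstance, fun A _ I hI a b w => isFormallySmoothHom_of_smooth f A I hI a b w⟩
  · rintro ⟨_, hf⟩
    refine ⟨fun {V} hV {U} hU h => ?_⟩
    algebraize [(f.appLE V U h).hom]
    haveI : Algebra.FormallySmooth Γ(Y, V) Γ(X, U) := appLE_formallySmooth hf hU hV h
    haveI : Algebra.FinitePresentation Γ(Y, V) Γ(X, U) :=
      RingHom.finitePresentation_algebraMap.mp (f.finitePresentation_appLE hV hU h)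
    exact RingHom.smooth_algebraMap.mpr ⟨inferInstance, inferInstance⟩

end Groth.Agent.SmoothLiftLib
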