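import Mathlib

/-!
# Lifting morphisms to smooth schemes étale locally
-/

set_option autoImplicit false
set_option linter.style.haveILetI false

universe u

open TensorProduct

namespace Groth.Agent.SmoothLiftLib

/-- Ring theoretic form: a map from a standard smooth algebra to a quotient extends after an étale
extension which is an isomorphism over the quotient. -/
theorem exists_etale_lift {R A A₀ B : Type u} [CommRing R] [CommRing A] [CommRing A₀] [CommRing B]
    (rA : R →+* A) (rB : R →+* B) (hB : rB.IsStandardSmooth)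
    (π : A →+* A₀) (hπ : Function.Surjective π) (φ : B →+* A₀) (hφ : φ.comp rB = π.comp rA) :
    ∃ (C : Type u) (_ : CommRing C) (aC : A →+* C) (ψ : B →+* C) (χ : C →+* A₀),
      aC.Etale ∧ ψ.comp rB = aC.comp rA ∧ χ.comp aC = π ∧ χ.comp ψ = φ ∧
      Function.Surjective χ ∧ RingHom.ker χ ≤ (RingHom.ker π).map aC := by
  classical
  obtain ⟨n, g, hgC, hg⟩ := hB.exists_etale_mvPolynomial
  choose a ha using fun i => hπ (φ (g (MvPolynomial.X i)))
  let P := MvPolynomial (Fin n) R
  let pA : P →+* A := MvPolynomial.eval₂Hom rA a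
  have hcomm : φ.comp g = π.comp pA := by
    refine MvPolynomial.ringHom_ext (fun r => ?_) (fun i => ?_)
    · have h1 := RingHom.congr_fun hgC r
      have h2 := RingHom.congr_fun hφ r
      simp only [RingHom.comp_apply] at h1 h2 ⊢
      rw [h1, h2]
      simp [pA]
    · simp [pA, ha]
  letI := pA.toAlgebra
  letI := g.toAlgebra
  haveI : Algebra.Etale P B := hg
  letI : Algebra A A₀ := π.toAlgebra
  letI : Algebra P A₀ := (π.comp pA).toAlgebra
  haveI : IsScalarTower P A A₀ := IsScalarTower.of_algebraMap_eq' rfl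
  let φ' : B →ₐ[P] A₀ := { φ with commutes' := fun p => RingHom.congr_fun hcomm p }
  let C₁ := A ⊗[P] B
  let χ₁ : C₁ →ₐ[A] A₀ :=
    Algebra.TensorProduct.lift (Algebra.ofId A A₀) φ' (fun _ _ => Commute.all _ _)
  let E₀ := A₀ ⊗[A] C₁
  let χ₀ : E₀ →ₐ[A₀] A₀ :=
    Algebra.TensorProduct.lift (Algebra.ofId A₀ A₀) χ₁ (fun _ _ => Commute.all _ _)
  have hsurj0 : Function.Surjective χ₀ := fun x => ⟨algebraMap A₀ E₀ x, χ₀.commutes x⟩
  letI : Algebra E₀ A₀ := χ₀.toRingHom.toAlgebra
  haveI : IsScalarTower A₀ E₀ A₀ := IsScalarTower.of_algebraMap_eq fun x => (χ₀.commutes x).symm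
  haveI : Algebra.Etale E₀ A₀ := Algebra.Etale.of_restrictScalars A₀ E₀ A₀
  have hsurj0' : Function.Surjective (algebraMap E₀ A₀) := hsurj0
  have hidem : IsIdempotentElem (RingHom.ker (algebraMap E₀ A₀)) :=
    (Algebra.FormallyEtale.iff_of_surjective hsurj0').mp inferInstance
  obtain ⟨e, he, hker⟩ := (Ideal.isIdempotentElem_iff_of_fg _
    (Algebra.FinitePresentation.ker_fG_of_surjective (Algebra.ofId E₀ A₀) hsurj0')).mp hidem
  have hker' : ∀ x : E₀, χ₀ x = 0 ↔ e ∣ x := fun x =>
    Iff.trans (SetLike.ext_iff.mp hker x) Ideal.mem_span_singleton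
  let ι : C₁ →ₐ[A] E₀ := Algebra.TensorProduct.includeRight
  have hι : Function.Surjective ι := by
    intro x
    induction x using TensorProduct.induction_on with
    | zero => exact ⟨0, map_zero _⟩
    | tmul s c =>
      obtain ⟨s', rfl⟩ := hπ s
      refine ⟨s' • c, ?_⟩
      show (1 : A₀) ⊗ₜ[A] (s' • c) = π s' ⊗ₜ[A] c
      rw [TensorProduct.tmul_smul, TensorProduct.smul_tmul', Algebra.smul_def, mul_one]
      rfl
    | add p q hp hq =>
      obtain ⟨p', rfl⟩ := hp; obtain ⟨q', rfl⟩ := hq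
      exact ⟨p' + q', map_add _ _ _⟩
  have hιker : RingHom.ker ι.toRingHom ≤ (RingHom.ker π).map (algebraMap A C₁) := by
    let J := (RingHom.ker π).map (algebraMap A C₁)
    let π' : A₀ →+* C₁ ⧸ J := π.liftOfSurjective hπ
      ⟨(Ideal.Quotient.mk J).comp (algebraMap A C₁), fun x hx =>
        Ideal.Quotient.eq_zero_iff_mem.mpr (Ideal.mem_map_of_mem _ hx)⟩
    let π'' : A₀ →ₐ[A] C₁ ⧸ J :=
      { π' with commutes' := fun x => RingHom.liftOfRightInverse_comp_apply _ _ _ _ x }
    let inv : E₀ →ₐ[A] C₁ ⧸ J :=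
      Algebra.TensorProduct.lift π'' (Ideal.Quotient.mkₐ A J) (fun _ _ => Commute.all _ _)
    intro c hc
    have h1 : inv (ι c) = Ideal.Quotient.mk J c := by
      show inv ((1 : A₀) ⊗ₜ[A] c) = _
      erw [Algebra.TensorProduct.lift_tmul]
      rw [map_one, one_mul]
      rfl
    rw [show ι c = 0 from hc, map_zero] at h1
    exact Ideal.Quotient.eq_zero_iff_mem.mp h1.symm
  obtain ⟨c, hc⟩ := hι (1 - e)
  have hc1 : χ₁ c = 1 := by
    have h1 : χ₀ (ι c) = χ₁ c := by
      show χ₀ ((1 : A₀) ⊗ₜ[A] c) = _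
      erw [Algebra.TensorProduct.lift_tmul]
      rw [map_one, one_mul]
    have h2 : χ₀ e = 0 := (hker' e).mpr dvd_rfl
    rw [← h1, hc, map_sub, map_one, h2, sub_zero]
  let C := Localization.Away c
  have hu : IsUnit (χ₁.toRingHom c) := by
    show IsUnit (χ₁ c)
    rw [hc1]; exact isUnit_one
  let χ : C →+* A₀ := IsLocalization.Away.lift c hu
  let aC : A →+* C := (algebraMap C₁ C).comp (algebraMap A C₁)
  let incB : B →+* C₁ := (Algebra.TensorProduct.includeRight : B →ₐ[P] C₁).toRingHom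
  refine ⟨C, inferInstance, aC, (algebraMap C₁ C).comp incB, χ, ?_, ?_, ?_, ?_, ?_, ?_⟩
  · haveI : Algebra.Etale C₁ C := Algebra.Etale.of_isLocalizationAway c
    haveI : Algebra.Etale A C₁ := inferInstance
    show RingHom.Etale ((algebraMap C₁ C).comp (algebraMap A C₁))
    exact RingHom.Etale.stableUnderComposition _ _ (RingHom.etale_algebraMap.mpr inferInstance)
      (RingHom.etale_algebraMap.mpr inferInstance)
  · ext r
    show algebraMap C₁ C ((1 : A) ⊗ₜ[P] rB r) = algebraMap C₁ C (rA r ⊗ₜ[P] (1 : B))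
    congr 1
    rw [← RingHom.congr_fun hgC r, RingHom.comp_apply,
      show g (MvPolynomial.C r) = (MvPolynomial.C r : P) • (1 : B) from by
        rw [Algebra.smul_def, mul_one]; rfl,
      TensorProduct.tmul_smul, TensorProduct.smul_tmul', Algebra.smul_def, mul_one,
      show algebraMap P A (MvPolynomial.C r) = rA r from MvPolynomial.eval₂Hom_C _ _ _]
  · ext x
    show χ (algebraMap C₁ C (algebraMap A C₁ x)) = π x
    rw [IsLocalization.Away.lift_eq]
    exact χ₁.commutes x
  · ext b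
    show χ (algebraMap C₁ C ((1 : A) ⊗ₜ[P] b)) = φ b
    rw [IsLocalization.Away.lift_eq]
    erw [Algebra.TensorProduct.lift_tmul]
    rw [map_one, one_mul]
    rfl
  · intro x
    obtain ⟨x', rfl⟩ := hπ x
    refine ⟨algebraMap C₁ C (algebraMap A C₁ x'), ?_⟩
    rw [IsLocalization.Away.lift_eq]
    exact χ₁.commutes x'
  · intro x hx
    obtain ⟨m, y, hy⟩ := IsLocalization.Away.surj c x
    have hy0 : χ₁ y = 0 := by
      have h := congrArg χ hy
      rw [map_mul, show χ x = 0 from hx, zero_mul, IsLocalization.Away.lift_eq] at h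
      exact h.symm
    have h0 : χ₀ (ι y) = 0 := by
      show χ₀ ((1 : A₀) ⊗ₜ[A] y) = 0
      erw [Algebra.TensorProduct.lift_tmul]
      rw [map_one, one_mul, hy0]
    obtain ⟨z, hz⟩ := (hker' _).mp h0
    have hcy : c * y ∈ (RingHom.ker π).map (algebraMap A C₁) := by
      apply hιker
      show ι (c * y) = 0
      rw [map_mul, hc, hz, ← mul_assoc, sub_mul, one_mul, he, sub_self, zero_mul]
    have hu' : IsUnit (algebraMap C₁ C c) := IsLocalization.Away.algebraMap_isUnit c
    have h3 : algebraMap C₁ C (c * y) ∈ (RingHom.ker π).map aC := by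
      rw [← Ideal.map_map]
      exact Ideal.mem_map_of_mem _ hcy
    rw [map_mul, ← hy] at h3
    exact (Ideal.mul_unit_mem_iff_mem _ (hu'.pow m)).mp
      ((Ideal.unit_mul_mem_iff_mem _ hu').mp h3)

end Groth.Agent.SmoothLiftLib
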