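import Mathlib

/-!
Local sections of a square-zero thickened algebra glue to a global section.
-/

set_option autoImplicit false

universe u

open TensorProduct

namespace Groth.Agent.SmoothLiftLib

variable {A C : Type u} [CommRing A] [CommRing C] [Algebra A C] (I : Ideal A)

/-- If locally on `A` there are sections of `C` lifting `σ`, and `C ⊗ A/I` is finitely presented,
then there is a global section lifting `σ`. -/
theorem exists_lift_of_local (hI : I ^ 2 = ⊥) (σ : C →ₐ[A] A ⧸ I) (hσ2 : RingHom.ker σ ^ 2 = ⊥)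
    [Algebra.FinitePresentation (A ⧸ I) ((A ⧸ I) ⊗[A] C)]
    (hloc : Ideal.span {h : A | ∃ φ : C →ₐ[A] Localization.Away h,
      ∀ c, σ c = 0 → φ c ∈ I.map (algebraMap A (Localization.Away h))} = ⊤) :
    ∃ φ : C →ₐ[A] A, (Ideal.Quotient.mkₐ A I).comp φ = σ := by
  classical
  have hmk : ∀ a : A, σ (algebraMap A C a) = Ideal.Quotient.mk I a := fun a => σ.commutes a
  have hK : ∀ x y : C, σ x = 0 → σ y = 0 → x * y = 0 := fun x y hx hy => by
    have : x * y ∈ RingHom.ker σ ^ 2 := by
      rw [pow_two]; exact Ideal.mul_mem_mul hx hy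
    rwa [hσ2, Ideal.mem_bot] at this
  have hIK : ∀ (i : A) (k : C), i ∈ I → σ k = 0 → i • k = 0 := fun i k hi hk => by
    rw [Algebra.smul_def]
    exact hK _ _ ((hmk i).trans (Ideal.Quotient.eq_zero_iff_mem.2 hi)) hk
  -- the special fibre
  let σE : (A ⧸ I) ⊗[A] C →ₐ[A ⧸ I] A ⧸ I :=
    Algebra.TensorProduct.lift (Algebra.ofId (A ⧸ I) (A ⧸ I)) σ fun _ _ => .all _ _
  have hσE : ∀ c, σE ((1 : A ⧸ I) ⊗ₜ c) = σ c := fun c => by simp [σE]
  have honeC : ∀ e : (A ⧸ I) ⊗[A] C, ∃ c, (1 : A ⧸ I) ⊗ₜ c = e := fun e => by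
    induction e using TensorProduct.induction_on with
    | zero => exact ⟨0, TensorProduct.tmul_zero _ _⟩
    | tmul r c =>
      obtain ⟨a, rfl⟩ := Ideal.Quotient.mk_surjective r
      refine ⟨a • c, ?_⟩
      rw [← TensorProduct.smul_tmul]
      congr 1
      rw [Algebra.smul_def, mul_one]; rfl
    | add x y hx hy =>
      obtain ⟨c, rfl⟩ := hx
      obtain ⟨d, rfl⟩ := hy
      exact ⟨c + d, TensorProduct.tmul_add _ _ _⟩
  have hzero : ∀ c, (1 : A ⧸ I) ⊗ₜ[A] c = 0 → σ c = 0 → ∃ i ∈ I, c = algebraMap A C i := by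
    intro c hc hc0
    have h1 : c ∈ I • (⊤ : Submodule A C) := by
      have := congrArg (TensorProduct.quotTensorEquivQuotSMul C I) hc
      rw [show (1 : A ⧸ I) = Ideal.Quotient.mk I 1 from rfl,
        TensorProduct.quotTensorEquivQuotSMul_mk_tmul, one_smul, map_zero] at this
      exact (Submodule.Quotient.mk_eq_zero _).1 this
    clear hc hc0
    refine Submodule.smul_induction_on h1 (fun i hi x _ => ?_) ?_
    · obtain ⟨a, ha⟩ := Ideal.Quotient.mk_surjective (σ x)
      refine ⟨i * a, Ideal.mul_mem_right _ _ hi, ?_⟩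
      have := hIK i (x - algebraMap A C a) hi (by rw [map_sub, hmk, ha, sub_self])
      rw [smul_sub, sub_eq_zero] at this
      rw [this, map_mul, Algebra.smul_def]
    · rintro x y ⟨i, hi, rfl⟩ ⟨j, hj, rfl⟩
      exact ⟨i + j, add_mem hi hj, (map_add _ _ _).symm⟩
  have hsqE : ∀ e, σE e = 0 → e * e = 0 := by
    intro e he
    obtain ⟨c, rfl⟩ := honeC e
    rw [Algebra.TensorProduct.tmul_mul_tmul, hK c c ((hσE c).symm.trans he) ((hσE c).symm.trans he),
      TensorProduct.tmul_zero]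
  haveI : Algebra.IsIntegral (A ⧸ I) ((A ⧸ I) ⊗[A] C) := ⟨fun e => by
    have h2 : σE (e - algebraMap (A ⧸ I) _ (σE e)) = 0 := by
      rw [map_sub, σE.commutes]; exact sub_self _
    have h3 : IsIntegral (A ⧸ I) (e - algebraMap (A ⧸ I) _ (σE e)) :=
      IsIntegral.of_pow two_pos (by rw [pow_two, hsqE _ h2]; exact isIntegral_zero)
    simpa using h3.add (isIntegral_algebraMap (x := σE e))⟩
  haveI : Module.Finite (A ⧸ I) ((A ⧸ I) ⊗[A] C) := Algebra.IsIntegral.finite
  haveI : Module.FinitePresentation (A ⧸ I) ((A ⧸ I) ⊗[A] C) :=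
    Module.FinitePresentation.of_finite_of_finitePresentation _ _
  let M := LinearMap.ker σE.toLinearMap
  let pM : (A ⧸ I) ⊗[A] C →ₗ[A ⧸ I] M := LinearMap.codRestrict M
    (LinearMap.id - (LinearMap.toSpanSingleton (A ⧸ I) ((A ⧸ I) ⊗[A] C) 1).comp σE.toLinearMap)
    (fun e => by simp [M])
  haveI : Module.FinitePresentation (A ⧸ I) M := by
    refine Module.finitePresentation_of_surjective (R := A ⧸ I) (M := (A ⧸ I) ⊗[A] C) (N := ↥M) pM (fun m => ⟨m.1, Subtype.ext ?_⟩) ⟨({1} : Finset ((A ⧸ I) ⊗[A] C)), ?_⟩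
    · have : σE m.1 = 0 := m.2
      simp [pM, this]
    · rw [Finset.coe_singleton]
      refine le_antisymm (Submodule.span_le.2 ?_) fun e he => ?_
      · rintro _ rfl
        refine Subtype.ext ?_
        simp [pM]
      · have : e - σE e • (1 : (A ⧸ I) ⊗[A] C) = 0 := congrArg Subtype.val he
        rw [sub_eq_zero.1 this]
        exact Submodule.smul_mem _ _ (Submodule.mem_span_singleton_self _)
  obtain ⟨n, π, hπ⟩ := Module.Finite.exists_fin' (A ⧸ I) M
  obtain ⟨s, hs⟩ := Module.FinitePresentation.fg_ker (R := A ⧸ I) (M := Fin n → A ⧸ I) (N := ↥M) π hπ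
  choose k hk using fun j : Fin n => honeC (π (Pi.single j 1)).1
  have hk0 : ∀ j, σ (k j) = 0 := fun j => by
    rw [← hσE, hk]; exact (π (Pi.single j 1)).2
  have hone_smul : ∀ (b : A) (c : C), (1 : A ⧸ I) ⊗ₜ[A] (b • c) =
      Ideal.Quotient.mk I b • ((1 : A ⧸ I) ⊗ₜ[A] c) := fun b c => by
    rw [TensorProduct.tmul_smul]; rfl
  have hsum : ∀ b : Fin n → A, (1 : A ⧸ I) ⊗ₜ[A] (∑ j, b j • k j) =
      (π (fun j => Ideal.Quotient.mk I (b j))).1 := fun b => by
    conv_rhs => rw [pi_eq_sum_univ' (fun j => Ideal.Quotient.mk I (b j)), map_sum]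
    rw [TensorProduct.tmul_sum, Submodule.coe_sum]
    refine Finset.sum_congr rfl fun j _ => ?_
    rw [hone_smul, hk, map_smul, Submodule.coe_smul]
  choose a ha using fun r : {x // x ∈ s} => show ∃ b : Fin n → A, (fun j => Ideal.Quotient.mk I (b j)) = r.1 from
    ⟨fun j => (Ideal.Quotient.mk_surjective (r.1 j)).choose,
      funext fun j => (Ideal.Quotient.mk_surjective (r.1 j)).choose_spec⟩
  -- the ideal of denominators
  let den : Ideal A :=
    { carrier := {g | ∃ t : Fin n → C, (∀ j, σ (t j) = 0) ∧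
        (∀ j, (1 : A ⧸ I) ⊗ₜ[A] t j = Ideal.Quotient.mk I g • ((1 : A ⧸ I) ⊗ₜ[A] k j)) ∧
        ∀ r, ∑ j, a r j • t j = 0}
      zero_mem' := ⟨0, fun j => map_zero _, fun j => by simp, fun r => by simp⟩
      add_mem' := by
        rintro x y ⟨t, h1, h2, h3⟩ ⟨t', h1', h2', h3'⟩
        refine ⟨t + t', fun j => ?_, fun j => ?_, fun r => ?_⟩
        · rw [Pi.add_apply, map_add, h1, h1', add_zero]
        · rw [Pi.add_apply, TensorProduct.tmul_add, h2, h2', map_add, add_smul]
        · simp only [Pi.add_apply, smul_add, Finset.sum_add_distrib, h3, h3', add_zero]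
      smul_mem' := by
        rintro c x ⟨t, h1, h2, h3⟩
        refine ⟨c • t, fun j => ?_, fun j => ?_, fun r => ?_⟩
        · rw [Pi.smul_apply, map_smul, h1, smul_zero]
        · rw [Pi.smul_apply, hone_smul, h2, smul_eq_mul, map_mul, mul_smul]
        · simp only [Pi.smul_apply, smul_comm _ c, ← Finset.smul_sum, h3, smul_zero] }
  have hden : (1 : A) ∈ den := by
    rw [← Ideal.eq_top_iff_one, ← Ideal.radical_eq_top, eq_top_iff, ← hloc, Ideal.span_le]
    rintro h ⟨φ, hφ⟩
    have hk' : ∀ j, ∃ (N : ℕ) (i : A), i ∈ I ∧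
        φ (k j) * algebraMap A _ (h ^ N) = algebraMap A (Localization.Away h) i := by
      intro j
      obtain ⟨⟨⟨i, hi⟩, ⟨_, N, rfl⟩⟩, e⟩ :=
        (IsLocalization.mem_map_algebraMap_iff (Submonoid.powers h) _).1 (hφ _ (hk0 j))
      exact ⟨N, i, hi, e⟩
    choose Nj i hi e using hk'
    let N := ∑ j, Nj j
    have hN : ∀ j, Nj j ≤ N := fun j => Finset.single_le_sum (fun _ _ => Nat.zero_le _) (Finset.mem_univ j)
    let i' : Fin n → A := fun j => h ^ (N - Nj j) * i j
    let t : Fin n → C := fun j => h ^ N • k j - algebraMap A C (i' j)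
    have ht0 : ∀ j, σ (t j) = 0 := fun j => by
      rw [map_sub, map_smul, hk0, smul_zero, zero_sub, hmk,
        Ideal.Quotient.eq_zero_iff_mem.2 (Ideal.mul_mem_left _ _ (hi j)), neg_zero]
    have htφ : ∀ j, φ (t j) = 0 := fun j => by
      rw [map_sub, map_smul, φ.commutes, map_mul, ← e j, Algebra.smul_def, sub_eq_zero]
      rw [show h ^ N = h ^ (N - Nj j) * h ^ Nj j by rw [← pow_add, Nat.sub_add_cancel (hN j)]]
      rw [map_mul]; ring
    have ht1 : ∀ j, (1 : A ⧸ I) ⊗ₜ[A] t j = Ideal.Quotient.mk I (h ^ N) • ((1 : A ⧸ I) ⊗ₜ[A] k j) := by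
      intro j
      rw [TensorProduct.tmul_sub, hone_smul, Algebra.algebraMap_eq_smul_one, hone_smul,
        Ideal.Quotient.eq_zero_iff_mem.2 (Ideal.mul_mem_left _ _ (hi j)), zero_smul, sub_zero]
    have hrel : ∀ r, ∃ M : ℕ, h ^ M • (∑ j, a r j • t j) = 0 := by
      intro r
      have hσ0 : σ (∑ j, a r j • t j) = 0 := by simp [map_sum, map_smul, ht0]
      have h10 : (1 : A ⧸ I) ⊗ₜ[A] (∑ j, a r j • t j) = 0 := by
        have hr : π r.1 = 0 := by
          have : r.1 ∈ Submodule.span (A ⧸ I) (s : Set (Fin n → A ⧸ I)) :=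
            Submodule.subset_span r.2
          rw [hs] at this
          exact this
        have := hsum (a r)
        rw [ha r, hr, Submodule.coe_zero, TensorProduct.tmul_sum] at this
        rw [TensorProduct.tmul_sum]
        calc (∑ j, (1 : A ⧸ I) ⊗ₜ[A] (a r j • t j))
            = ∑ j, Ideal.Quotient.mk I (h ^ N) • ((1 : A ⧸ I) ⊗ₜ[A] (a r j • k j)) := by
              refine Finset.sum_congr rfl fun j _ => ?_
              rw [hone_smul, ht1, hone_smul, smul_comm]
          _ = 0 := by rw [← Finset.smul_sum, this, smul_zero]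
      obtain ⟨d, hd, hdc⟩ := hzero _ h10 hσ0
      have : algebraMap A (Localization.Away h) d = 0 := by
        rw [← φ.commutes, ← hdc, map_sum]
        simp [map_smul, htφ]
      obtain ⟨⟨_, M, rfl⟩, hM⟩ := (IsLocalization.map_eq_zero_iff (Submonoid.powers h) _ _).1 this
      exact ⟨M, by rw [hdc, Algebra.smul_def, ← map_mul]; exact (congrArg _ hM).trans (map_zero _)⟩
    choose Mr hMr using hrel
    let P := ∑ r, Mr r
    refine ⟨P + N, ⟨fun j => h ^ P • t j, fun j => by rw [map_smul, ht0, smul_zero], fun j => ?_,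
      fun r => ?_⟩⟩
    · rw [hone_smul, ht1, smul_smul, ← map_mul, ← pow_add]
    · simp only [smul_comm (a r _) (h ^ P), ← Finset.smul_sum]
      rw [show P = (P - Mr r) + Mr r from (Nat.sub_add_cancel
        (Finset.single_le_sum (fun _ _ => Nat.zero_le _) (Finset.mem_univ r))).symm,
        pow_add, mul_smul, hMr, smul_zero]
  obtain ⟨t, ht0, ht1, ht2⟩ := hden
  simp only [map_one, one_smul] at ht1
  let Φ : (Fin n → A) →ₗ[A] C := Fintype.linearCombination A t
  have hΦ : ∀ b, Φ b = ∑ j, b j • t j := fun b => rfl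
  have hΦ0 : ∀ b, σ (Φ b) = 0 := fun b => by simp [hΦ, map_sum, map_smul, ht0]
  let L : Ideal C :=
    { carrier := Set.range Φ
      zero_mem' := ⟨0, map_zero _⟩
      add_mem' := by rintro x y ⟨b, rfl⟩ ⟨c, rfl⟩; exact ⟨b + c, map_add _ _ _⟩
      smul_mem' := by
        rintro c _ ⟨b, rfl⟩
        obtain ⟨a₀, ha₀⟩ := Ideal.Quotient.mk_surjective (σ c)
        refine ⟨a₀ • b, ?_⟩
        have := hK (c - algebraMap A C a₀) (Φ b) (by rw [map_sub, hmk, ha₀, sub_self]) (hΦ0 b)
        rw [sub_mul, sub_eq_zero] at this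
        rw [map_smul, smul_eq_mul, this, Algebra.smul_def] }
  have hker : ∀ x : Fin n → A ⧸ I, π x = 0 → ∀ b : Fin n → A,
      (fun j => Ideal.Quotient.mk I (b j)) = x → Φ b = 0 := by
    intro x hx
    have h0 : ∀ b : Fin n → A, (fun j => Ideal.Quotient.mk I (b j)) = 0 → Φ b = 0 := fun b hb => by
      rw [hΦ]
      exact Finset.sum_eq_zero fun j _ => hIK _ _ (Ideal.Quotient.eq_zero_iff_mem.1 (congrFun hb j)) (ht0 j)
    have hx' : x ∈ Submodule.span (A ⧸ I) (s : Set (Fin n → A ⧸ I)) := by rw [hs]; exact hx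
    clear hx
    induction hx' using Submodule.span_induction with
    | mem y hy =>
      intro b hb
      have := h0 (b - a ⟨y, hy⟩) (funext fun j => by
        have h1 := congrFun hb j
        have h2 := congrFun (ha ⟨y, hy⟩) j
        simp only [Pi.sub_apply, map_sub] at *
        rw [h1, h2]; simp)
      rw [map_sub, sub_eq_zero] at this
      rw [this, hΦ]; exact ht2 _
    | zero => exact h0
    | add y z _ _ ihy ihz =>
      intro b hb
      choose b₁ hb₁ using fun j => Ideal.Quotient.mk_surjective (y j)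
      have := ihz (b - b₁) (funext fun j => by
        have h1 := congrFun hb j
        simp only [Pi.sub_apply, map_sub, hb₁, Pi.add_apply] at *
        rw [h1]; ring)
      rwa [map_sub, ihy b₁ (funext hb₁), sub_zero] at this
    | smul r y _ ihy =>
      intro b hb
      choose b₁ hb₁ using fun j => Ideal.Quotient.mk_surjective (y j)
      obtain ⟨r₀, rfl⟩ := Ideal.Quotient.mk_surjective r
      have := h0 (b - r₀ • b₁) (funext fun j => by
        have h1 := congrFun hb j
        simp only [Pi.sub_apply, Pi.smul_apply, smul_eq_mul, map_sub, map_mul, hb₁] at *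
        rw [h1]; simp)
      rwa [map_sub, map_smul, ihy b₁ (funext hb₁), smul_zero, sub_zero] at this
  have hπsum : ∀ b : Fin n → A, (1 : A ⧸ I) ⊗ₜ[A] Φ b =
      (π (fun j => Ideal.Quotient.mk I (b j))).1 := fun b => by
    rw [← hsum, hΦ, TensorProduct.tmul_sum, TensorProduct.tmul_sum]
    exact Finset.sum_congr rfl fun j _ => by rw [hone_smul, hone_smul, ht1]
  have hbij : Function.Bijective (Algebra.ofId A (C ⧸ L)) := by
    refine ⟨(injective_iff_map_eq_zero _).2 fun x hx => ?_, fun y => ?_⟩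
    · rw [Algebra.ofId_apply, IsScalarTower.algebraMap_apply A C (C ⧸ L)] at hx
      obtain ⟨b, hb⟩ : algebraMap A C x ∈ L := Ideal.Quotient.eq_zero_iff_mem.1 hx
      have hxI : x ∈ I := Ideal.Quotient.eq_zero_iff_mem.1 (by rw [← hmk, ← hb, hΦ0])
      have h10 : π (fun j => Ideal.Quotient.mk I (b j)) = 0 := by
        refine Subtype.ext ?_
        rw [← hπsum, hb, Algebra.algebraMap_eq_smul_one, hone_smul,
          Ideal.Quotient.eq_zero_iff_mem.2 hxI, zero_smul]
        rfl
      have hx0 : algebraMap A C x = 0 := by rw [← hb]; exact hker _ h10 b rfl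
      have : (Submodule.span A {x}).annihilator = (⊤ : Ideal A) := by
        rw [← Ideal.radical_eq_top, eq_top_iff, ← hloc, Ideal.span_le]
        rintro h ⟨φ, -⟩
        have : algebraMap A (Localization.Away h) x = 0 := by rw [← φ.commutes, hx0, map_zero]
        obtain ⟨⟨_, M, rfl⟩, hM⟩ := (IsLocalization.map_eq_zero_iff (Submonoid.powers h) _ _).1 this
        exact ⟨M, (Submodule.mem_annihilator_span_singleton _ _).2 hM⟩
      have := (Submodule.mem_annihilator_span_singleton x (1 : A)).1 (this ▸ Submodule.mem_top)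
      simpa using this
    · obtain ⟨c, rfl⟩ := Ideal.Quotient.mk_surjective y
      obtain ⟨a₀, ha₀⟩ := Ideal.Quotient.mk_surjective (σ c)
      have hk'0 : σ (c - algebraMap A C a₀) = 0 := by rw [map_sub, hmk, ha₀, sub_self]
      obtain ⟨x, hx⟩ := hπ ⟨(1 : A ⧸ I) ⊗ₜ[A] (c - algebraMap A C a₀), (hσE _).trans hk'0⟩
      choose b hb using fun j => Ideal.Quotient.mk_surjective (x j)
      obtain ⟨i, hi, hic⟩ := hzero (c - algebraMap A C a₀ - Φ b)
        (by rw [TensorProduct.tmul_sub, hπsum, funext hb, hx, sub_self])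
        (by rw [map_sub, hk'0, hΦ0, sub_zero])
      refine ⟨a₀ + i, ?_⟩
      rw [Algebra.ofId_apply, IsScalarTower.algebraMap_apply A C (C ⧸ L)]
      refine (Ideal.Quotient.eq).2 ⟨-b, ?_⟩
      rw [map_neg, map_add, ← hic]; ring
  let e := AlgEquiv.ofBijective _ hbij
  refine ⟨e.symm.toAlgHom.comp (Ideal.Quotient.mkₐ A L), AlgHom.ext fun c => ?_⟩
  obtain ⟨b, hb⟩ : algebraMap A C (e.symm (Ideal.Quotient.mk L c)) - c ∈ L := by
    rw [← Ideal.Quotient.eq]
    exact e.apply_symm_apply _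
  have := congrArg σ hb
  rw [hΦ0, map_sub, hmk, eq_comm, sub_eq_zero] at this
  exact this

end Groth.Agent.SmoothLiftLib
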